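import Cfsg.Agent.FiThree.Engine
import Mathlib.GroupTheory.PGroup

/-!
Normal forms in subgroups of three-power order of the presented Fischer group, certified on a separating list of
points.
-/

set_option autoImplicit false

namespace Cfsg.Lib.FiThree

open Cfsg.Lib.FiPres

/-- An element fixing the listed points is trivial. -/
def Sep (B : List ℕ) : Prop := (∀ b ∈ B, b < 3510) ∧ ∀ g : Fi, (∀ p : Fin 3510, p.val ∈ B → g • p = p) → g = 1

theorem Sep.eq {B : List ℕ} (hB : Sep B) {g h : Fi}
    (H : ∀ p : Fin 3510, p.val ∈ B → (g • p : Fin 3510).val = (h • p : Fin 3510).val) : g = h :=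
  inv_mul_eq_one.1 (hB.2 (g⁻¹ * h) fun p hp => by rw [mul_smul, inv_smul_eq_iff]; exact (Fin.ext (H p hp)).symm)

theorem sep_of_span {roots tabs : List ℕ} {f par which rank : ℕ} (ht : List.Forall₂ TT roots tabs)
    (hid : allB (fun x => Nat.beq (img f x) x) 3510 = true)
    (hs : spanOK roots roots tabs tabs f par which rank = true) : Sep roots := by
  refine ⟨fun b hb => ?_, fun g hg => ?_⟩
  · obtain ⟨i, hi, rfl⟩ := List.getElem_of_mem hb
    exact (List.forall₂_iff_get.1 ht |>.2 i hi (ht.length_eq ▸ hi)).1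
  · exact (determine rfl ht ht hs fun i p hi hp => by
      rw [hg p (hp ▸ by rw [List.getD_eq_getElem _ _ hi]; exact List.getElem_mem _), hp]).unique (id_at hid)

/-- Equal values at the listed points. -/
def eqOn (B : List ℕ) (f h : ℕ → ℕ) : Bool := B.all fun b => Nat.beq (f b) (h b)

theorem eqOn_iff {B : List ℕ} {f h : ℕ → ℕ} : eqOn B f h = true ↔ ∀ b ∈ B, f b = h b := by
  simp only [eqOn, List.all_eq_true]
  exact forall₂_congr fun b _ => ⟨Nat.eq_of_beq_eq_true, fun e => e ▸ Nat.beq_refl _⟩

theorem eq_of_eqOn {B : List ℕ} (hB : Sep B) {g h : Fi} {f k : ℕ → ℕ}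
    (hg : ∀ p : Fin 3510, (g • p : Fin 3510).val = f p.val) (hh : ∀ p : Fin 3510, (h • p : Fin 3510).val = k p.val)
    (H : eqOn B f k = true) : g = h :=
  hB.eq fun p hp => by rw [hg, hh]; exact eqOn_iff.1 H p.val hp

/-- The image of a point under the normal form with a code, the least digit for the first table. -/
def evNF : List ℕ → ℕ → ℕ → ℕ
  | [], _, x => x
  | a :: r, n, x =>
    let y := evNF r (n / 3) x
    if Nat.beq (n % 3) 0 then y else if Nat.beq (n % 3) 1 then img a y else img a (img a y)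

/-- The normal form with a code. -/
noncomputable def nfE : List ℕ → ℕ → Fi
  | [], _ => 1
  | a :: r, n => el a ^ (n % 3) * nfE r (n / 3)

theorem nfE_smul : ∀ {l : List ℕ}, (∀ a ∈ l, Ok a) → ∀ (n : ℕ) (p : Fin 3510),
    (nfE l n • p : Fin 3510).val = evNF l n p.val
  | [], _, n, p => by simp [nfE, evNF]
  | a :: r, h, n, p => by
    have ih := nfE_smul (fun b hb => h b (List.mem_cons_of_mem a hb)) (n / 3) p
    have ha := (h a List.mem_cons_self).smul
    have h3 : n % 3 < 3 := Nat.mod_lt _ (by norm_num)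
    simp only [nfE, evNF, mul_smul]
    generalize n % 3 = e at h3 ⊢
    interval_cases e
    · simpa using ih
    · simp [ha, ih]
    · rw [pow_two, mul_smul, ha, ha, ih]
      rfl

theorem nfE_zero : ∀ l : List ℕ, nfE l 0 = 1
  | [] => rfl
  | a :: r => by simp [nfE, nfE_zero r]

/-- The checks of a normal-form list: cubes are trivial, each table normalises the subgroup of the later ones,
and neither it nor its square lies there. The list of lists gives the codes of the conjugates. -/
def pcOK (B : List ℕ) : List ℕ → List (List ℕ) → List (List ℕ) → Bool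
  | [], _, _ => true
  | a :: r, cs, ws =>
    eqOn B (fun b => img a (img a (img a b))) (fun b => b) &&
      (List.range r.length).all (fun i =>
        Nat.ble (((cs.headD []).getD i 0) + 1) (3 ^ r.length) &&
          eqOn B (fun b => img a (img (r.getD i 0) b)) (fun b => evNF r ((cs.headD []).getD i 0) (img a b))) &&
      allB (fun n => !eqOn ((ws.headD []) ) (fun b => img a b) (fun b => evNF r n b)) (3 ^ r.length) &&
      (ws.headD []).all (fun b => B.contains b) &&
      pcOK B r cs.tail ws.tail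

theorem nf_spec {B : List ℕ} (hB : Sep B) : ∀ {l : List ℕ} {cs ws : List (List ℕ)}, (∀ a ∈ l, Ok a) →
    pcOK B l cs ws = true →
      (∀ x, x ∈ Subgroup.closure (el '' {a | a ∈ l}) ↔ ∃ n, n < 3 ^ l.length ∧ nfE l n = x) ∧
      (∀ m n, m < 3 ^ l.length → n < 3 ^ l.length → nfE l m = nfE l n → m = n)
  | [], _, _, _, _ => by
    refine ⟨fun x => ?_, fun m n hm hn _ => by simp at hm hn; omega⟩
    simp [nfE, Subgroup.mem_bot, eq_comm]
  | a :: r, cs, ws, hok, hc => by
    haveI := finite_fi
    simp only [pcOK, Bool.and_eq_true, List.all_eq_true, List.mem_range, Nat.ble_eq, Bool.not_eq_true'] at hc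
    obtain ⟨⟨⟨⟨hcube, hrel⟩, hdist⟩, hwB⟩, hrest⟩ := hc
    have hr : ∀ b ∈ r, Ok b := fun b hb => hok b (List.mem_cons_of_mem a hb)
    have ha := hok a List.mem_cons_self
    obtain ⟨ihmem, ihinj⟩ := nf_spec hB (cs := cs.tail) (ws := ws.tail) hr hrest
    set H := Subgroup.closure (el '' {b | b ∈ r})
    have h3 : el a ^ 3 = 1 := eq_of_eqOn hB (fun p => by
      rw [pow_succ, pow_two, mul_smul, mul_smul, ha.smul, ha.smul, ha.smul]) (fun p => by rw [one_smul]) hcube
    have hnorm : ∀ h ∈ H, el a * h * (el a)⁻¹ ∈ H := by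
      have hle : H ≤ H.comap (MulAut.conj (el a)).toMonoidHom := (Subgroup.closure_le _).2 (by
        rintro _ ⟨b, hb, rfl⟩
        obtain ⟨i, hi, rfl⟩ := List.getElem_of_mem hb
        show el a * el r[i] * (el a)⁻¹ ∈ H
        obtain ⟨hlt, he⟩ := hrel i hi
        rw [show el a * el r[i] = nfE r ((cs.headD []).getD i 0) * el a from
          eq_of_eqOn (f := fun b => img a (img r[i] b))
            (k := fun b => evNF r ((cs.headD []).getD i 0) (img a b)) hB
            (fun p => by rw [mul_smul, ha.smul, (hr _ (List.getElem_mem hi)).smul])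
            (fun p => by rw [mul_smul, nfE_smul hr, ha.smul]) (by rwa [List.getD_eq_getElem _ _ hi] at he),
          mul_inv_cancel_right]
        exact (ihmem _).2 ⟨_, hlt, rfl⟩)
      exact fun h hh => hle hh
    have hnormk : ∀ (k : ℕ), ∀ h ∈ H, el a ^ k * h * (el a ^ k)⁻¹ ∈ H := by
      intro k
      induction k with
      | zero => intro h hh; simpa using hh
      | succ k ih =>
        intro h hh
        rw [pow_succ', mul_inv_rev, show el a * el a ^ k * h * ((el a ^ k)⁻¹ * (el a)⁻¹) =
          el a * (el a ^ k * h * (el a ^ k)⁻¹) * (el a)⁻¹ by group]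
        exact hnorm _ (ih h hh)
    have hout : el a ∉ H := fun hh => by
      obtain ⟨n, hn, e⟩ := (ihmem _).1 hh
      have h0 := allB_iff.1 hdist n hn
      rw [Bool.not_eq_true'] at h0
      refine Bool.eq_false_iff.1 h0 (eqOn_iff.2 fun b hb => ?_)
      have hbB : b ∈ B := List.contains_iff_mem.1 (hwB b hb)
      have h1 := nfE_smul hr n ⟨b, hB.1 b hbB⟩
      rw [e, ha.smul] at h1
      exact h1
    have hmem : ∀ x, x ∈ Subgroup.closure (el '' {b | b ∈ a :: r}) ↔ ∃ e, e < 3 ∧ ∃ h ∈ H, el a ^ e * h = x := by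
      intro x
      let S : Subgroup Fi :=
        { carrier := {x | ∃ e, e < 3 ∧ ∃ h ∈ H, el a ^ e * h = x}
          one_mem' := ⟨0, by norm_num, 1, H.one_mem, by simp⟩
          mul_mem' := by
            rintro _ _ ⟨e, -, h, hh, rfl⟩ ⟨f, -, k, hk, rfl⟩
            have hh' : (el a ^ f)⁻¹ * h * el a ^ f ∈ H := by
              have := hnormk (2 * f) h hh
              have e2 : el a ^ (2 * f) = (el a ^ f)⁻¹ := by
                refine eq_inv_of_mul_eq_one_left ?_
                rw [← pow_add, show 2 * f + f = 3 * f by ring, pow_mul, h3, one_pow]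
              rwa [e2, inv_inv] at this
            refine ⟨(e + f) % 3, Nat.mod_lt _ (by norm_num), (el a ^ f)⁻¹ * h * el a ^ f * k,
              H.mul_mem hh' hk, ?_⟩
            rw [← pow_eq_pow_mod _ h3, pow_add]
            group
          inv_mem' := by
            rintro _ ⟨e, he, h, hh, rfl⟩
            refine ⟨(3 - e) % 3, Nat.mod_lt _ (by norm_num), el a ^ e * h⁻¹ * (el a ^ e)⁻¹,
              hnormk e _ (H.inv_mem hh), ?_⟩
            rw [← pow_eq_pow_mod _ h3, pow_sub _ (by omega : e ≤ 3), h3]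
            group }
      constructor
      · refine fun hx => (Subgroup.closure_le (K := S)).2 ?_ hx
        rintro _ ⟨b, hb, rfl⟩
        rcases List.mem_cons.1 hb with rfl | hb
        · exact ⟨1, by norm_num, 1, H.one_mem, by simp⟩
        · exact ⟨0, by norm_num, el b, Subgroup.subset_closure ⟨b, hb, rfl⟩, by simp⟩
      · rintro ⟨e, -, h, hh, rfl⟩
        refine Subgroup.mul_mem _ (Subgroup.pow_mem _ (by exact Subgroup.subset_closure ⟨a, List.mem_cons_self, rfl⟩) e)
          (Subgroup.closure_mono ?_ hh)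
        rintro _ ⟨b, hb, rfl⟩
        exact ⟨b, List.mem_cons_of_mem a hb, rfl⟩
    refine ⟨fun x => (hmem x).trans ⟨?_, ?_⟩, ?_⟩
    · rintro ⟨e, he, h, hh, rfl⟩
      obtain ⟨n, hn, rfl⟩ := (ihmem _).1 hh
      refine ⟨e + 3 * n, by rw [List.length_cons, pow_succ]; omega, ?_⟩
      rw [nfE, show (e + 3 * n) % 3 = e by omega, show (e + 3 * n) / 3 = n by omega]
    · rintro ⟨n, hn, rfl⟩
      rw [List.length_cons, pow_succ] at hn
      exact ⟨n % 3, Nat.mod_lt _ (by norm_num), _, (ihmem _).2 ⟨n / 3, by omega, rfl⟩, rfl⟩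
    · intro m n hm hn e
      rw [List.length_cons, pow_succ] at hm hn
      simp only [nfE] at e
      have hdiff : el a ^ (n % 3) = el a ^ (m % 3) * (nfE r (m / 3) * (nfE r (n / 3))⁻¹) := by
        rw [← mul_assoc, e, mul_inv_cancel_right]
      have hin : (el a ^ (m % 3))⁻¹ * el a ^ (n % 3) ∈ H := by
        rw [hdiff, inv_mul_cancel_left]
        exact H.mul_mem ((ihmem _).2 ⟨_, by omega, rfl⟩) (H.inv_mem ((ihmem _).2 ⟨_, by omega, rfl⟩))
      have hmod : m % 3 = n % 3 := by
        have hm3 : m % 3 < 3 := Nat.mod_lt _ (by norm_num)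
        have hn3 : n % 3 < 3 := Nat.mod_lt _ (by norm_num)
        have hsq : el a ^ 2 ∉ H := fun h => hout (by
          have := H.mul_mem h h
          rwa [← pow_add, show 2 + 2 = 3 + 1 from rfl, pow_add, h3, one_mul, pow_one] at this)
        generalize m % 3 = u at hm3 hin ⊢
        generalize n % 3 = v at hn3 hin ⊢
        have e2 : (el a ^ u)⁻¹ = el a ^ (2 * u) := by
          refine inv_eq_of_mul_eq_one_right ?_
          rw [← pow_add, show u + 2 * u = 3 * u by ring, pow_mul, h3, one_pow]
        rw [e2, ← pow_add, pow_eq_pow_mod _ h3] at hin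
        have hk : (2 * u + v) % 3 = 0 := by
          by_contra hk
          rcases (show (2 * u + v) % 3 = 1 ∨ (2 * u + v) % 3 = 2 by omega) with h | h <;> rw [h] at hin
          · exact hout (by rwa [pow_one] at hin)
          · exact hsq hin
        omega
      rw [hmod] at e
      have := ihinj (m / 3) (n / 3) (by omega) (by omega) (mul_left_cancel e)
      omega

/-- The subgroup of a list. -/
noncomputable def gp (l : List ℕ) : Subgroup Fi := Subgroup.closure (el '' {a | a ∈ l})

theorem card_gp {B : List ℕ} (hB : Sep B) {l : List ℕ} {cs ws : List (List ℕ)} (hok : ∀ a ∈ l, Ok a)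
    (hc : pcOK B l cs ws = true) : Nat.card (gp l) = 3 ^ l.length := by
  obtain ⟨hm, hi⟩ := nf_spec hB hok hc
  let f : Fin (3 ^ l.length) → gp l := fun n => ⟨nfE l n.val, (hm _).2 ⟨n.val, n.isLt, rfl⟩⟩
  have hb : Function.Bijective f := ⟨fun m n h => Fin.ext (hi _ _ m.isLt n.isLt (congrArg Subtype.val h)),
    fun x => by
      obtain ⟨n, hn, e⟩ := (hm _).1 x.2
      exact ⟨⟨n, hn⟩, Subtype.ext e⟩⟩
  rw [← Nat.card_eq_of_bijective f hb, Nat.card_fin]

end Cfsg.Lib.FiThree
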