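import Cfsg.Agent.FiPres.Aut

/-!
Elements of the presented Fischer group given by image tables on the points, with fast lookups.
-/

set_option autoImplicit false

namespace Cfsg.Lib.FiThree

open Cfsg.Lib.CosetCert Cfsg.Lib.PermCert Cfsg.Lib.FiPres

/-- The group. -/
abbrev Fi := Cfsg.Spor.Fi22

/-- Table lookup. -/
def img (t x : ℕ) : ℕ := Nat.land (Nat.shiftRight t (Nat.mul 16 x)) 65535

theorem img_eq_ap (t x : ℕ) : img t x = ap t x := by
  show (t >>> (16 * x)) &&& 65535 = (t >>> (16 * x)) % 65536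
  exact Nat.and_two_pow_sub_one_eq_mod _ 16

/-- A test on an initial segment of the numbers. -/
def allB (f : ℕ → Bool) : ℕ → Bool
  | 0 => true
  | n + 1 => f n && allB f n

theorem allB_iff {f : ℕ → Bool} : ∀ {n : ℕ}, allB f n = true ↔ ∀ x < n, f x = true
  | 0 => by simp [allB]
  | n + 1 => by
    rw [allB, Bool.and_eq_true, allB_iff]
    exact ⟨fun ⟨h, h'⟩ x hx => (Nat.lt_succ_iff_lt_or_eq.1 hx).elim (h' x) (· ▸ h),
      fun h => ⟨h n (Nat.lt_succ_self n), fun x hx => h x (Nat.lt_succ_of_lt hx)⟩⟩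

/-- The images under a list of tables, the last applied first. -/
def evs : List ℕ → ℕ → ℕ
  | [], x => x
  | t :: r, x => img t (evs r x)

/-- The element acts by the table. -/
def At (g : Fi) (t : ℕ) : Prop := ∀ p : Fin 3510, ((g • p : Fin 3510) : ℕ) = img t p.val

theorem eq_of_smul {g h : Fi} (H : ∀ p : Fin 3510, g • p = h • p) : g = h :=
  factG.2 (Equiv.ext fun p => by rw [← smul_eq, ← smul_eq, H p])

theorem At.unique {g h : Fi} {t : ℕ} (hg : At g t) (hh : At h t) : g = h :=
  eq_of_smul fun p => Fin.ext (by rw [hg p, hh p])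

/-- The table of some element. -/
def Ok (t : ℕ) : Prop := ∃ g : Fi, At g t

open scoped _root_.Classical in
/-- The element of a table. -/
noncomputable def el (t : ℕ) : Fi := if h : Ok t then h.choose else 1

theorem Ok.at_el {t : ℕ} (h : Ok t) : At (el t) t := by
  rw [el, dif_pos h]
  exact h.choose_spec

theorem At.el_eq {g : Fi} {t : ℕ} (h : At g t) : el t = g := Ok.at_el ⟨g, h⟩ |>.unique h

theorem Ok.smul {t : ℕ} (h : Ok t) (p : Fin 3510) : ((el t • p : Fin 3510) : ℕ) = img t p.val := h.at_el p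

theorem Ok.img_lt {t : ℕ} (h : Ok t) {x : ℕ} (hx : x < 3510) : img t x < 3510 := h.at_el ⟨x, hx⟩ ▸ Fin.isLt _

/-- The product of a list of tables. -/
noncomputable def elW (w : List ℕ) : Fi := (w.map el).prod

theorem elW_smul : ∀ {w : List ℕ}, (∀ t ∈ w, Ok t) → ∀ p : Fin 3510, ((elW w • p : Fin 3510) : ℕ) = evs w p.val
  | [], _, p => by simp [elW, evs]
  | t :: r, h, p => by
    have e : elW (t :: r) = el t * elW r := by simp [elW]
    rw [e, mul_smul, (h t List.mem_cons_self).smul, elW_smul (fun a ha => h a (List.mem_cons_of_mem t ha))]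
    rfl

/-- The table is the product of the listed ones. -/
def comp (u : ℕ) (w : List ℕ) : Bool := allB (fun x => Nat.beq (img u x) (evs w x)) 3510

theorem At.of_comp {u : ℕ} {w : List ℕ} (hw : ∀ t ∈ w, Ok t) (h : comp u w = true) : At (elW w) u := fun p => by
  rw [elW_smul hw]
  exact (Nat.eq_of_beq_eq_true (allB_iff.1 h p.val p.isLt)).symm

theorem Ok.of_comp {u : ℕ} {w : List ℕ} (hw : ∀ t ∈ w, Ok t) (h : comp u w = true) : Ok u :=
  ⟨_, At.of_comp hw h⟩

theorem el_comp {u : ℕ} {w : List ℕ} (hw : ∀ t ∈ w, Ok t) (h : comp u w = true) : el u = elW w :=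
  (At.of_comp hw h).el_eq

/-- The transposition of a point acts by the table. -/
def TT (y t : ℕ) : Prop := ∃ h : y < 3510, At (tr ⟨y, h⟩) t

theorem TT.ok {y t : ℕ} : TT y t → Ok t := fun ⟨_, h⟩ => ⟨_, h⟩

theorem TT.el_eq {y t : ℕ} (h : TT y t) : el t = tr ⟨y, h.1⟩ := h.2.el_eq

theorem tr_mul_self (y : Fin 3510) : tr y * tr y = 1 := by
  haveI := transitive
  obtain ⟨g, rfl⟩ := MulAction.exists_smul_eq Fi p0 y
  rw [tr_orbit, show ∀ h : Fi, h * im10 0 * h⁻¹ * (h * im10 0 * h⁻¹) = h * (im10 0 * im10 0) * h⁻¹ from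
    fun h => by group, im10_zero_sq, mul_one, mul_inv_cancel]

theorem tr_inv (y : Fin 3510) : (tr y)⁻¹ = tr y := inv_eq_of_mul_eq_one_left (tr_mul_self y)

theorem tr_mem (y : Fin 3510) : tr y ∈ transp := by
  haveI := transitive
  obtain ⟨g, rfl⟩ := MulAction.exists_smul_eq Fi p0 y
  rw [tr_orbit]
  exact mem_transp.2 ⟨g, rfl⟩

theorem tr_surj {x : Fi} (hx : x ∈ transp) : ∃ y, tr y = x := exists_point hx

theorem TT.step {a b ta tb u : ℕ} (ha : TT a ta) (hb : TT b tb) (h : comp u [ta, tb, ta] = true) :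
    TT (img ta b) u := by
  obtain ⟨ha', hta⟩ := ha
  obtain ⟨hb', htb⟩ := hb
  have hu := At.of_comp (u := u) (w := [ta, tb, ta]) (by
    simp only [List.mem_cons, List.not_mem_nil, or_false]
    rintro t (rfl | rfl | rfl) <;> exact ⟨_, by assumption⟩) h
  have e : elW [ta, tb, ta] = tr (tr ⟨a, ha'⟩ • ⟨b, hb'⟩) := by
    rw [tr_smul, tr_inv]
    simp [elW, hta.el_eq, htb.el_eq, mul_assoc]
  rw [e] at hu
  have hv : ((tr ⟨a, ha'⟩ • ⟨b, hb'⟩ : Fin 3510) : ℕ) = img ta b := hta ⟨b, hb'⟩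
  exact ⟨hv ▸ Fin.isLt _, by convert hu using 3; exact hv.symm⟩

theorem letter_table : ∀ k : Fin 9, TT (letterPts.getD k.val 0) (sigTabs.getD k.val (0, 0)).1 := by
  intro k
  have hlt : letterPts.getD k.val 0 < 3510 := by
    have := List.all_eq_true.1 letters_ok k.val (List.mem_range.2 k.isLt)
    simp only [Bool.and_eq_true, decide_eq_true_eq] at this
    exact this.1.1.2
  refine ⟨hlt, fun p => ?_⟩
  have hpt : ptL k = ⟨letterPts.getD k.val 0, hlt⟩ := Fin.ext (Nat.mod_eq_of_lt hlt)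
  rw [← hpt, (letter_facts k).2.1, smul_eq, (psi_act k.val (show k.val < 10 by omega)).2,
    perm_apply (psi_act k.val (show k.val < 10 by omega)).1, img_eq_ap]

/-- Elements fixing the nine points of the letters are trivial. -/
theorem eq_one_of_letters {g : Fi} (h : ∀ k : Fin 9, g • ptL k = ptL k) : g = 1 := by
  haveI := simple_fi
  have hc : g ∈ Subgroup.center Fi := by
    have : ⊤ ≤ Subgroup.centralizer ({g} : Set Fi) := by
      rw [← closure_im, Subgroup.closure_le]
      rintro _ ⟨l, hl, rfl⟩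
      have e := tr_smul g (ptL ⟨l, hl⟩)
      rw [h, (letter_facts ⟨l, hl⟩).2.1, im10_low hl] at e
      rw [SetLike.mem_coe, Subgroup.mem_centralizer_singleton_iff]
      exact (eq_mul_inv_iff_mul_eq.1 e)
    exact Subgroup.mem_center_iff.2 fun x => Subgroup.mem_centralizer_singleton_iff.1 (this (Subgroup.mem_top x))
  rcases Subgroup.Normal.eq_bot_or_eq_top (inferInstance : (Subgroup.center Fi).Normal) with e | e
  · rwa [e, Subgroup.mem_bot] at hc
  · exfalso
    refine im10_zero_ne (factG.2 (Equiv.ext fun p => ?_))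
    haveI := transitive
    obtain ⟨x, rfl⟩ := MulAction.exists_smul_eq Fi p0 p
    have h0 : im10 0 • p0 = p0 := by
      rw [← MulAction.mem_stabilizer_iff, index_eq.2]
      exact lgp_mem im10 zero_lam
    rw [map_one, ← smul_eq, Equiv.Perm.one_apply, ← mul_smul,
      Subgroup.mem_center_iff.1 (e ▸ Subgroup.mem_top (im10 0)) x |>.symm, mul_smul, h0]

end Cfsg.Lib.FiThree
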