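import Cfsg.Agent.FiThree.Core

/-!
Certificates for the exact order and generators of a subgroup of the presented Fischer group: at each level the
orbit of a base point is the whole class of that point for the sets of points known to be invariant.
-/

set_option autoImplicit false

namespace Cfsg.Lib.FiThree

open Cfsg.Lib.CosetCert Cfsg.Lib.PermCert Cfsg.Lib.FiPres MulAction

/-- All points. -/
def full : ℕ := 2 ^ 3510 - 1

theorem testBit_two_pow_pred (n x : ℕ) : (2 ^ n - 1).testBit x = decide (x < n) := Nat.testBit_two_pow_sub_one n x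

theorem testBit_full {x : ℕ} : full.testBit x = decide (x < 3510) := by
  unfold full
  generalize 3510 = n
  exact testBit_two_pow_pred n x

attribute [irreducible] full

/-- The set of points is invariant. -/
def Inv (M : Subgroup Fi) (X : ℕ) : Prop :=
  ∀ g ∈ M, ∀ p : Fin 3510, X.testBit (g • p : Fin 3510).val = X.testBit p.val

theorem Inv.mono {M M' : Subgroup Fi} {X : ℕ} (hle : M' ≤ M) (h : Inv M X) : Inv M' X := fun g hg => h g (hle hg)

theorem inv_of_maps {M : Subgroup Fi} {X : ℕ}
    (h : ∀ g ∈ M, ∀ p : Fin 3510, X.testBit p.val = true → X.testBit (g • p : Fin 3510).val = true) : Inv M X := by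
  intro g hg p
  cases hp : X.testBit p.val
  · cases hq : X.testBit (g • p : Fin 3510).val
    · rfl
    · have := h g⁻¹ (M.inv_mem hg) _ hq
      rw [inv_smul_smul, hp] at this
      exact this.symm
  · exact h g hg p hp

/-- The class of a point for a list of sets. -/
def cls : List ℕ → ℕ → ℕ
  | [], _ => full
  | X :: r, b => if X.testBit b then cls r b &&& X else cls r b &&& (full ^^^ X)

theorem cls_testBit {M : Subgroup Fi} : ∀ {inv : List ℕ}, (∀ X ∈ inv, Inv M X) → ∀ {g : Fi}, g ∈ M →
    ∀ {b : Fin 3510}, (cls inv b.val).testBit (g • b : Fin 3510).val = true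
  | [], _, g, _, b => by simp [cls, testBit_full]
  | X :: r, h, g, hg, b => by
    have ih : (cls r b.val).testBit (g • b : Fin 3510).val = true :=
      cls_testBit (fun Y hY => h Y (List.mem_cons_of_mem X hY)) hg
    have hX := h X List.mem_cons_self g hg b
    rw [cls]
    cases hb : X.testBit b.val <;>
      simp [hb, ih, hX, testBit_full, Nat.testBit_and, Nat.testBit_xor]

/-- The points fixed by a table. -/
def fixOK (X t : ℕ) : Bool := allB (fun q => (Nat.beq (img t q) q) == X.testBit q) 3510

/-- A level: a base point, the table of its transposition, the points fixed by it, generators and an orbit tree. -/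
structure NLev where
  b : ℕ
  extra : List (ℕ × Bool × ℕ)
  tb : ℕ
  nb : ℕ
  gens : List ℕ
  tree : List (ℕ × ℕ × ℕ)

/-- The tree scans. -/
def scan (gens : List ℕ) : ℕ → List (ℕ × ℕ × ℕ) → Bool
  | _, [] => true
  | seen, (q, par, g) :: r =>
    Nat.ble (q + 1) 3510 && Nat.ble (par + 1) 3510 && !seen.testBit q && seen.testBit par &&
      Nat.ble (g + 1) gens.length && Nat.beq (img (gens.getD g 0) par) q && scan gens (seen ||| 1 <<< q) r

/-- A set derived from an invariant one by the pair of elements. -/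
def derOK (tx : ℕ × ℕ) (inv : List ℕ) (e : ℕ × Bool × ℕ) : Bool :=
  Nat.ble (e.1 + 1) inv.length && allB (fun q => e.2.2.testBit q ==
    (if e.2.1 then (inv.getD e.1 0).testBit (img tx.1 q) || (inv.getD e.1 0).testBit (img tx.2 q)
      else (inv.getD e.1 0).testBit (img tx.1 q) && (inv.getD e.1 0).testBit (img tx.2 q))) 3510

/-- The invariant sets used at a level. -/
def NLev.known (L : NLev) (inv : List ℕ) : List ℕ := L.extra.map (fun e => e.2.2) ++ inv

theorem derived_inv {M : Subgroup Fi} {tx : ℕ × ℕ} {inv : List ℕ} {e : ℕ × Bool × ℕ}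
    (h1 : Ok tx.1) (h2 : Ok tx.2)
    (hx : ∀ g ∈ M, (g * el tx.1 * g⁻¹ = el tx.1 ∧ g * el tx.2 * g⁻¹ = el tx.2) ∨
      (g * el tx.1 * g⁻¹ = el tx.2 ∧ g * el tx.2 * g⁻¹ = el tx.1))
    (hinv : ∀ X ∈ inv, Inv M X) (h : derOK tx inv e = true) : Inv M e.2.2 := by
  simp only [derOK, Bool.and_eq_true, Nat.ble_eq] at h
  obtain ⟨hlt, hq⟩ := h
  have hX : Inv M (inv.getD e.1 0) := by
    rw [List.getD_eq_getElem _ _ hlt]
    exact hinv _ (List.getElem_mem _)
  have hval : ∀ p : Fin 3510, e.2.2.testBit p.val =
      (if e.2.1 then (inv.getD e.1 0).testBit (el tx.1 • p : Fin 3510).val ||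
          (inv.getD e.1 0).testBit (el tx.2 • p : Fin 3510).val
        else (inv.getD e.1 0).testBit (el tx.1 • p : Fin 3510).val &&
          (inv.getD e.1 0).testBit (el tx.2 • p : Fin 3510).val) := fun p => by
    have := allB_iff.1 hq p.val p.isLt
    rw [beq_iff_eq] at this
    rw [h1.smul, h2.smul, this]
  intro g hg p
  rw [hval, hval]
  rcases hx g hg with ⟨a, b⟩ | ⟨a, b⟩
  · rw [← mul_smul (el tx.1) g, ← mul_smul (el tx.2) g, ← mul_inv_eq_iff_eq_mul.1 a,
      ← mul_inv_eq_iff_eq_mul.1 b, mul_smul, mul_smul, hX g hg, hX g hg]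
  · rw [← mul_smul (el tx.1) g, ← mul_smul (el tx.2) g, ← mul_inv_eq_iff_eq_mul.1 a,
      ← mul_inv_eq_iff_eq_mul.1 b, mul_smul, mul_smul, hX g hg, hX g hg]
    split
    · exact Bool.or_comm _ _
    · exact Bool.and_comm _ _

/-- The orbit. -/
def NLev.orbit (L : NLev) : ℕ := treeMask L.tree (1 <<< L.b)

/-- The invariant sets after a level. -/
def NLev.next (L : NLev) (inv : List ℕ) : List ℕ := L.orbit :: L.nb :: (1 <<< L.b) :: L.known inv

/-- The check of a level, given the earlier base points. -/
def NLev.ok (L : NLev) (tx : ℕ × ℕ) (fixed inv : List ℕ) : Bool :=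
  Nat.ble (L.b + 1) 3510 && scan L.gens (1 <<< L.b) L.tree && fixOK L.nb L.tb &&
    L.gens.all (fun t => fixed.all fun c => Nat.beq (img t c) c) &&
    L.extra.all (derOK tx inv) && Nat.beq (cls (L.known inv) L.b &&& (full ^^^ L.orbit)) 0

/-- The check of the levels. -/
def levsOK (tx : ℕ × ℕ) : List ℕ → List ℕ → List NLev → Bool
  | _, _, [] => true
  | fixed, inv, L :: r => L.ok tx fixed inv && levsOK tx (L.b :: fixed) (L.next inv) r

/-- The invariant sets after the levels. -/
def endInv : List ℕ → List NLev → List ℕ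
  | inv, [] => inv
  | inv, L :: r => endInv (L.next inv) r

/-- The elements fixing the listed points. -/
def fixAll : List ℕ → Subgroup Fi
  | [] => ⊤
  | b :: r => fixAll r ⊓ if h : b < 3510 then stabilizer Fi (⟨b, h⟩ : Fin 3510) else ⊤

theorem mem_fixAll {g : Fi} : ∀ {l : List ℕ}, g ∈ fixAll l ↔ ∀ b : Fin 3510, b.val ∈ l → g • b = b
  | [] => by simp [fixAll]
  | c :: r => by
    rw [fixAll, Subgroup.mem_inf, mem_fixAll]
    constructor
    · rintro ⟨h, h'⟩ b hb
      rcases List.mem_cons.1 hb with e | e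
      · subst e
        simpa using h'
      · exact h b e
    · refine fun h => ⟨fun b hb => h b (List.mem_cons_of_mem c hb), ?_⟩
      split
      · exact h _ List.mem_cons_self
      · trivial

theorem scan_orbit {H : Subgroup Fi} {gens : List ℕ} (hok : ∀ t ∈ gens, Ok t) (hH : ∀ t ∈ gens, el t ∈ H)
    {b : Fin 3510} : ∀ (tree : List (ℕ × ℕ × ℕ)) (seen : ℕ),
      (∀ q, seen.testBit q = true → ∃ g ∈ H, (g • b : Fin 3510).val = q) → scan gens seen tree = true →
      (∀ q, (treeMask tree seen).testBit q = true → ∃ g ∈ H, (g • b : Fin 3510).val = q) ∧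
        ∀ S : Finset ℕ, (∀ q, q ∈ S ↔ seen.testBit q = true) → ∀ q, (treeMask tree seen).testBit q = true ↔
          q ∈ S ∪ (tree.map Prod.fst).toFinset
  | [], seen, h, _ => ⟨h, fun S hS q => by simp [treeMask, hS]⟩
  | (q, par, g) :: r, seen, h, hs => by
    simp only [scan, Bool.and_eq_true, Bool.not_eq_true', Nat.ble_eq] at hs
    obtain ⟨⟨⟨⟨⟨⟨hq, hp⟩, -⟩, hpar⟩, hg⟩, he⟩, hr⟩ := hs
    have he' := Nat.eq_of_beq_eq_true he
    have hmem : gens.getD g 0 ∈ gens := by
      rw [List.getD_eq_getElem _ _ hg]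
      exact List.getElem_mem _
    have hnew : ∀ x, (seen ||| 1 <<< q).testBit x = true ↔ seen.testBit x = true ∨ x = q := by
      intro x
      rw [Nat.testBit_or, Nat.one_shiftLeft, Nat.testBit_two_pow, Bool.or_eq_true, decide_eq_true_eq]
      exact or_congr Iff.rfl eq_comm
    have h' : ∀ x, (seen ||| 1 <<< q).testBit x = true → ∃ k ∈ H, (k • b : Fin 3510).val = x := by
      intro x hx
      rcases (hnew x).1 hx with hx | rfl
      · exact h x hx
      · obtain ⟨k, hk, e⟩ := h par hpar
        refine ⟨el (gens.getD g 0) * k, H.mul_mem (hH _ hmem) hk, ?_⟩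
        rw [mul_smul, (hok _ hmem).smul, e, he']
    obtain ⟨i1, i2⟩ := scan_orbit hok hH r (seen ||| 1 <<< q) h' hr
    refine ⟨i1, fun S hS x => ?_⟩
    show (treeMask r (seen ||| 1 <<< q)).testBit x = true ↔ _
    rw [i2 (insert q S) (fun y => by rw [Finset.mem_insert, hS, hnew, or_comm])]
    simp only [List.map_cons, List.toFinset_cons, Finset.mem_union, Finset.mem_insert]
    tauto

theorem scan_count {gens : List ℕ} : ∀ (tree : List (ℕ × ℕ × ℕ)) (seen : ℕ) (S : Finset ℕ),
    (∀ q, q ∈ S ↔ seen.testBit q = true) → scan gens seen tree = true →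
      (S ∪ (tree.map Prod.fst).toFinset).card = S.card + tree.length
  | [], _, S, _, _ => by simp
  | (q, par, g) :: r, seen, S, hS, hs => by
    simp only [scan, Bool.and_eq_true, Bool.not_eq_true'] at hs
    obtain ⟨⟨⟨⟨⟨-, hnew⟩, -⟩, -⟩, -⟩, hr⟩ := hs
    have hqS : q ∉ S := fun h => by
      rw [(hS q).1 h] at hnew
      exact Bool.noConfusion hnew
    have := scan_count r (seen ||| 1 <<< q) (insert q S) (fun y => by
      rw [Finset.mem_insert, hS, Nat.testBit_or, Nat.one_shiftLeft, Nat.testBit_two_pow, Bool.or_eq_true,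
        decide_eq_true_eq]
      exact or_comm.trans (or_congr Iff.rfl eq_comm)) hr
    rw [Finset.card_insert_of_notMem hqS] at this
    rw [List.map_cons, List.toFinset_cons, Finset.union_insert, ← Finset.insert_union, this, List.length_cons]
    omega

theorem mask_inv {M : Subgroup Fi} {b : Fin 3510} {O : ℕ} (hO : ∀ g ∈ M, O.testBit (g • b : Fin 3510).val = true)
    (hreach : ∀ q, O.testBit q = true → ∃ g ∈ M, (g • b : Fin 3510).val = q) : Inv M O :=
  inv_of_maps fun g hg p hp => by
    obtain ⟨k, hk, e⟩ := hreach _ hp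
    have hkp : k • b = p := Fin.ext e
    rw [← hkp, ← mul_smul]
    exact hO _ (M.mul_mem hg hk)

theorem fix_inv {M : Subgroup Fi} {b : Fin 3510} {tb X : ℕ} (htt : TT b.val tb) (hX : fixOK X tb = true)
    (hfix : ∀ g ∈ M, g • b = b) : Inv M X := by
  have hiff : ∀ p : Fin 3510, X.testBit p.val = true ↔ tr b • p = p := fun p => by
    have := allB_iff.1 hX p.val p.isLt
    rw [beq_iff_eq] at this
    rw [← this, Fin.ext_iff, ← htt.el_eq, htt.ok.smul]
    exact ⟨Nat.eq_of_beq_eq_true, fun h => h.symm ▸ Nat.beq_refl _⟩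
  refine inv_of_maps fun g hg p hp => ?_
  rw [hiff] at hp ⊢
  have e : tr b * g = g * tr b := by
    have := tr_smul g b
    rw [hfix g hg] at this
    exact (eq_mul_inv_iff_mul_eq.1 this)
  rw [← mul_smul, e, mul_smul, hp]

/-- The product of the orbit lengths. -/
def levsSize : List NLev → ℕ
  | [] => 1
  | L :: r => (L.tree.length + 1) * levsSize r

/-- All the generators. -/
def levsGens : List NLev → List ℕ
  | [] => []
  | L :: r => L.gens ++ levsGens r

theorem levsGens_nil : levsGens [] = [] := by simp [levsGens]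

theorem levsGens_cons (L : NLev) (r : List NLev) : levsGens (L :: r) = L.gens ++ levsGens r := by simp [levsGens]

/-- Forces the generation of the unfolding lemma of `levsGens` in this file. -/
theorem levsGens_eq_self (l : List NLev) : levsGens l = levsGens l := (levsGens.eq_def l).trans (levsGens.eq_def l).symm

/-- What is known of the elements of the subgroup at the end. -/
theorem levs_spec {tx : ℕ × ℕ} (h1 : Ok tx.1) (h2 : Ok tx.2) {M : Subgroup Fi}
    (hx : ∀ g ∈ M, (g * el tx.1 * g⁻¹ = el tx.1 ∧ g * el tx.2 * g⁻¹ = el tx.2) ∨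
      (g * el tx.1 * g⁻¹ = el tx.2 ∧ g * el tx.2 * g⁻¹ = el tx.1)) :
    ∀ (levs : List NLev) (fixed inv : List ℕ),
    (∀ L ∈ levs, TT L.b L.tb) → (∀ t ∈ levsGens levs, Ok t ∧ el t ∈ M) → levsOK tx fixed inv levs = true →
    (∀ X ∈ inv, Inv (M ⊓ fixAll fixed) X) →
    (∀ g ∈ M ⊓ fixAll ((levs.map NLev.b).reverse ++ fixed),
      (∀ X ∈ endInv inv levs, Inv (M ⊓ fixAll ((levs.map NLev.b).reverse ++ fixed)) X) → g = 1) →
    Nat.card (M ⊓ fixAll fixed : Subgroup Fi) = levsSize levs ∧
      M ⊓ fixAll fixed ≤ Subgroup.closure (el '' {t | t ∈ levsGens levs})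
  | [], fixed, inv, _, _, _, hinv, hend => by
    simp only [List.map_nil, List.reverse_nil, List.nil_append, endInv] at hend
    have hbot : M ⊓ fixAll fixed = ⊥ := (Subgroup.eq_bot_iff_forall _).2 fun g hg => hend g hg hinv
    exact ⟨by rw [hbot, Subgroup.card_bot]; rfl, hbot ▸ bot_le⟩
  | L :: r, fixed, inv, htt, hgens, hok, hinv, hend => by
    haveI := finite_fi
    simp only [levsOK, NLev.ok, Bool.and_eq_true, List.all_eq_true, Nat.ble_eq] at hok
    obtain ⟨⟨⟨⟨⟨⟨hb, hscan⟩, hnb⟩, hfixed⟩, hext⟩, hcls⟩, hr⟩ := hok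
    have hcls' := Nat.eq_of_beq_eq_true hcls
    set H := M ⊓ fixAll fixed with hH
    set b : Fin 3510 := ⟨L.b, hb⟩
    have hg' : ∀ t ∈ L.gens, Ok t ∧ el t ∈ H := fun t ht => by
      obtain ⟨o, m⟩ := hgens t (List.mem_append_left _ ht)
      refine ⟨o, m, mem_fixAll.2 fun c hc => Fin.ext ?_⟩
      rw [o.smul]
      exact Nat.eq_of_beq_eq_true (hfixed t ht c.val hc)
    obtain ⟨hreach, hmask⟩ := scan_orbit (b := b) (fun t ht => (hg' t ht).1) (H := Subgroup.closure (el '' {t | t ∈ L.gens}))
      (fun t ht => Subgroup.subset_closure ⟨t, ht, rfl⟩) L.tree (1 <<< L.b) (fun q hq => ⟨1, Subgroup.one_mem _, by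
        rw [Nat.one_shiftLeft, Nat.testBit_two_pow, decide_eq_true_eq] at hq
        rw [one_smul]
        exact hq⟩) hscan
    have hclo : Subgroup.closure (el '' {t | t ∈ L.gens}) ≤ H := (Subgroup.closure_le _).2 (by
      rintro _ ⟨t, ht, rfl⟩
      exact (hg' t ht).2)
    have hknown : ∀ X ∈ L.known inv, Inv H X := by
      intro X hX
      rcases List.mem_append.1 hX with hX | hX
      · obtain ⟨e, he, rfl⟩ := List.mem_map.1 hX
        exact derived_inv h1 h2 (fun g hg => hx g hg.1) hinv (hext e he)
      · exact hinv X hX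
    have hclsO : ∀ g ∈ H, L.orbit.testBit (g • b : Fin 3510).val = true := fun g hg => by
      have h1 := cls_testBit hknown hg (b := b)
      by_contra h2
      rw [Bool.not_eq_true] at h2
      have := congrArg (fun n => Nat.testBit n (g • b : Fin 3510).val) hcls'
      simp [Nat.testBit_and, Nat.testBit_xor, h1, h2, testBit_full, b] at this
    have hOinv : Inv H L.orbit := mask_inv hclsO fun q hq => by
      obtain ⟨k, hk, e⟩ := hreach q hq
      exact ⟨k, hclo hk, e⟩
    have hle : M ⊓ fixAll (L.b :: fixed) ≤ H := inf_le_inf_left M (by rw [fixAll]; exact inf_le_left)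
    have hstab : M ⊓ fixAll (L.b :: fixed) = H ⊓ stabilizer Fi b := by
      rw [fixAll, dif_pos (show L.b < 3510 from hb), hH, inf_assoc]
    obtain ⟨ihc, ihg⟩ := levs_spec h1 h2 hx r (L.b :: fixed) (L.next inv) (fun L' h => htt L' (List.mem_cons_of_mem L h))
      (fun t ht => hgens t (List.mem_append_right _ ht)) hr (fun X hX => by
        simp only [NLev.next, List.mem_cons] at hX
        rcases hX with rfl | rfl | rfl | hX
        · exact hOinv.mono hle
        · exact fix_inv (b := b) (htt L List.mem_cons_self) hnb fun g hg =>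
            (Subgroup.mem_inf.1 (hstab ▸ hg : g ∈ H ⊓ stabilizer Fi b)).2
        · refine inv_of_maps fun g hg p hp => ?_
          rw [Nat.one_shiftLeft, Nat.testBit_two_pow, decide_eq_true_eq] at hp ⊢
          have e : g • b = b := (Subgroup.mem_inf.1 (hstab ▸ hg : g ∈ H ⊓ stabilizer Fi b)).2
          rw [show p = b from Fin.ext hp.symm, e]
        · exact (hknown X hX).mono hle)
      (fun g hg hI => hend g (by simpa [List.append_assoc] using hg) (by simpa [endInv, List.append_assoc] using hI))
    refine ⟨?_, fun g hg => ?_⟩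
    · have horb : orbit H b = {p : Fin 3510 | L.orbit.testBit p.val = true} := by
        refine Set.Subset.antisymm ?_ fun p hp => ?_
        · rintro _ ⟨⟨g, hg⟩, rfl⟩
          exact hclsO g hg
        · obtain ⟨k, hk, e⟩ := hreach _ hp
          exact ⟨⟨k, hclo hk⟩, Fin.ext e⟩
      have hcount : Nat.card (orbit H b) = L.tree.length + 1 := by
        have hs := fun q => hmask {L.b} (fun y => by
          rw [Finset.mem_singleton, Nat.one_shiftLeft, Nat.testBit_two_pow, decide_eq_true_eq]
          exact eq_comm) q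
        have hc := scan_count L.tree (1 <<< L.b) {L.b} (fun y => by
          rw [Finset.mem_singleton, Nat.one_shiftLeft, Nat.testBit_two_pow, decide_eq_true_eq]
          exact eq_comm) hscan
        rw [horb, Nat.card_coe_set_eq, ← Set.ncard_image_of_injective _ Fin.val_injective]
        rw [show (Fin.val : Fin 3510 → ℕ) '' {p | L.orbit.testBit p.val = true} =
          (({L.b} ∪ (L.tree.map Prod.fst).toFinset : Finset ℕ) : Set ℕ) from ?_, Set.ncard_coe_finset, hc]
        · simp [add_comm]
        · ext q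
          rw [Finset.mem_coe, ← hs]
          constructor
          · rintro ⟨p, hp, rfl⟩
            exact hp
          · intro hq
            obtain ⟨k, -, e⟩ := hreach q hq
            exact ⟨k • b, by rw [Set.mem_ofPred_eq, e]; exact hq, e⟩
      have hst : Nat.card (stabilizer H b) = Nat.card (M ⊓ fixAll (L.b :: fixed) : Subgroup Fi) := by
        rw [hstab]
        exact Nat.card_congr
          { toFun := fun x => ⟨x.1.1, x.1.2, x.2⟩
            invFun := fun x => ⟨⟨x.1, x.2.1⟩, x.2.2⟩
            left_inv := fun x => rfl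
            right_inv := fun x => rfl }
      calc Nat.card H = Nat.card (orbit H b) * Nat.card (stabilizer H b) := by
            rw [← Nat.card_prod]
            exact Nat.card_congr (orbitProdStabilizerEquivGroup H b).symm
        _ = levsSize (L :: r) := by rw [hcount, hst, ihc]; rfl
    · obtain ⟨k, hk, e⟩ := hreach _ (hclsO g hg)
      have hk' : k ∈ H := hclo hk
      have hfix : k⁻¹ * g ∈ M ⊓ fixAll (L.b :: fixed) := by
        rw [hstab]
        refine ⟨H.mul_mem (H.inv_mem hk') hg, ?_⟩
        show (k⁻¹ * g) • b = b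
        rw [mul_smul, ← Fin.ext e, inv_smul_smul]
      have h1 : k ∈ Subgroup.closure (el '' {t | t ∈ levsGens (L :: r)}) := Subgroup.closure_mono (by
        rintro _ ⟨t, ht, rfl⟩
        exact ⟨t, List.mem_append_left _ ht, rfl⟩) hk
      have h2 : k⁻¹ * g ∈ Subgroup.closure (el '' {t | t ∈ levsGens (L :: r)}) := Subgroup.closure_mono (by
        rintro _ ⟨t, ht, rfl⟩
        exact ⟨t, List.mem_append_right _ ht, rfl⟩) (ihg hfix)
      simpa using Subgroup.mul_mem _ h1 h2

/-- Sign of an involution on the points from the number of its fixed points. -/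
def oddInvol (s X : ℕ) : Bool :=
  allB (fun q => Nat.ble (img s q + 1) 3510 && Nat.beq (img s (img s q)) q && ((Nat.beq (img s q) q) == X.testBit q)) 3510 &&
    Nat.beq ((3510 - maskCount 3510 X) % 4) 2

/-- Each point outside the roots comes from an earlier one by the transposition of a root. -/
def spanOK (roots images tabs tabs' : List ℕ) (f par which rank : ℕ) : Bool :=
  (List.range roots.length).all (fun i => Nat.beq (img f (roots.getD i 0)) (images.getD i 0)) &&
    allB (fun w => roots.contains w || (Nat.ble (img par w + 1) 3510 && Nat.ble (img which w + 1) roots.length &&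
      Nat.ble (img rank (img par w) + 1) (img rank w) &&
      Nat.beq (img (tabs.getD (img which w) 0) (img par w)) w &&
      Nat.beq (img (tabs'.getD (img which w) 0) (img f (img par w))) (img f w))) 3510

theorem determine {roots images tabs tabs' : List ℕ} {f par which rank : ℕ}
    (hlen : images.length = roots.length) (ht : List.Forall₂ TT roots tabs) (ht' : List.Forall₂ TT images tabs')
    (hs : spanOK roots images tabs tabs' f par which rank = true) {g : Fi}
    (hg : ∀ i (p : Fin 3510), i < roots.length → p.val = roots.getD i 0 → (g • p : Fin 3510).val = images.getD i 0) :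
    At g f := by
  simp only [spanOK, Bool.and_eq_true, List.all_eq_true, List.mem_range] at hs
  obtain ⟨hroot, hstep⟩ := hs
  intro w
  induction hr : img rank w.val using Nat.strong_induction_on generalizing w with
  | _ n ih =>
    have h := allB_iff.1 hstep w.val w.isLt
    rw [Bool.or_eq_true, List.contains_iff_mem] at h
    rcases h with h | h
    · obtain ⟨i, hi, e⟩ := List.getElem_of_mem h
      rw [hg i w hi (by rw [List.getD_eq_getElem _ _ hi, e])]
      exact (by rw [← e, ← List.getD_eq_getElem _ 0 hi]; exact (Nat.eq_of_beq_eq_true (hroot i hi)).symm)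
    · simp only [Bool.and_eq_true, Nat.ble_eq] at h
      obtain ⟨⟨⟨⟨hp, hw⟩, hk⟩, h1⟩, h2⟩ := h
      set i := img which w.val
      have hi : i < roots.length := hw
      have hi' : i < tabs.length := ht.length_eq ▸ hi
      have hi'' : i < tabs'.length := by rw [← ht'.length_eq, hlen]; exact hi
      have t1 : TT (roots.getD i 0) (tabs.getD i 0) := by
        rw [List.getD_eq_getElem _ _ hi, List.getD_eq_getElem _ _ hi']
        exact List.forall₂_iff_get.1 ht |>.2 i hi hi'
      have t2 : TT (images.getD i 0) (tabs'.getD i 0) := by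
        rw [List.getD_eq_getElem _ _ (hlen.symm ▸ hi), List.getD_eq_getElem _ _ hi'']
        exact List.forall₂_iff_get.1 ht' |>.2 i (hlen.symm ▸ hi) hi''
      set p : Fin 3510 := ⟨img par w.val, hp⟩
      have ihp : (g • p : Fin 3510).val = img f p.val := ih _ (hr ▸ hk) p rfl
      have hwp : tr ⟨roots.getD i 0, t1.1⟩ • p = w := Fin.ext (by
        rw [← t1.el_eq, t1.ok.smul]
        exact Nat.eq_of_beq_eq_true h1)
      have hr0 : g • (⟨roots.getD i 0, t1.1⟩ : Fin 3510) = ⟨images.getD i 0, t2.1⟩ := Fin.ext (hg i _ hi rfl)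
      conv_lhs => rw [← hwp]
      rw [← mul_smul, show g * tr ⟨roots.getD i 0, t1.1⟩ = tr ⟨images.getD i 0, t2.1⟩ * g by
        rw [← hr0, tr_smul, inv_mul_cancel_right], mul_smul, ← t2.el_eq, t2.ok.smul, ihp]
      exact Nat.eq_of_beq_eq_true h2

theorem no_odd {g : Fi} {f X : ℕ} (hg : At g f) (ho : oddInvol f X = true) :
    False := by
  simp only [oddInvol, Bool.and_eq_true] at ho
  have hf := allB_iff.1 ho.1
  have hX := Nat.eq_of_beq_eq_true ho.2
  simp only [Bool.and_eq_true, Nat.ble_eq] at hf
  have h2 : psi g ^ 2 = 1 := Equiv.ext fun y => Fin.ext (by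
    rw [sq, Equiv.Perm.mul_apply, ← smul_eq, ← smul_eq, hg, hg, Equiv.Perm.one_apply]
    exact Nat.eq_of_beq_eq_true (hf y.val y.isLt).1.2)
  have hc : Fintype.card (Function.fixedPoints (psi g)) = maskCount 3510 X := by
    rw [← Nat.card_eq_fintype_card, Nat.card_coe_set_eq, ← ncard_maskPts]
    refine congrArg Set.ncard (Set.ext fun y => ?_)
    have h := (hf y.val y.isLt).2
    rw [beq_iff_eq] at h
    rw [mem_maskPts, ← h, Function.mem_fixedPoints, Function.IsFixedPt, ← smul_eq, Fin.ext_iff, hg]
    exact ⟨fun e => e.symm ▸ Nat.beq_refl _, Nat.eq_of_beq_eq_true⟩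
  have hs := sign_psi g
  rw [Equiv.Perm.sign_of_pow_two_eq_one h2, hc, Fintype.card_fin] at hs
  have : Odd ((3510 - maskCount 3510 X) / 2) := ⟨(3510 - maskCount 3510 X) / 4, by omega⟩
  rw [this.neg_one_pow] at hs
  exact absurd hs (by decide)

theorem id_at {f : ℕ} (h : allB (fun x => Nat.beq (img f x) x) 3510 = true) : At (1 : Fi) f := fun p => by
  rw [one_smul]
  exact (Nat.eq_of_beq_eq_true (allB_iff.1 h p.val p.isLt)).symm

end Cfsg.Lib.FiThree
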