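import Cfsg.Agent.FiThree.Engine

/-!
Tools for the generated tables of the presented Fischer group.
-/

set_option autoImplicit false

namespace Cfsg.Lib.FiThree

theorem ok_nil : ∀ t ∈ ([] : List ℕ), Ok t := fun _ h => absurd h List.not_mem_nil

theorem ok_cons {a : ℕ} {l : List ℕ} (h : Ok a) (hl : ∀ t ∈ l, Ok t) : ∀ t ∈ a :: l, Ok t := fun t ht =>
  (List.mem_cons.1 ht).elim (fun e => e ▸ h) (hl t)

theorem TT.step_to {a b ta tb u y : ℕ} (ha : TT a ta) (hb : TT b tb) (h : comp u [ta, tb, ta] = true)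
    (hy : Nat.beq (img ta b) y = true) : TT y u :=
  Nat.eq_of_beq_eq_true hy ▸ ha.step hb h

theorem tt_nil : List.Forall₂ TT [] [] := List.Forall₂.nil

end Cfsg.Lib.FiThree
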